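import Mathlib
import Cfsg.Agent.FusionLift.Basic

/-!
Control of strong fusion lifts through a central p-subgroup.
-/

set_option autoImplicit false
set_option linter.unusedSectionVars false
set_option linter.style.haveILetI false

namespace CfsgLib.LeastRadical

open Subgroup CfsgLib.FusionLift

variable {G : Type*} [Group G] [Finite G] {p : ℕ} [Fact p.Prime]

/-- If `D/K` is a p-group then a Sylow subgroup of `D` supplements `K`. -/
theorem exists_mul_of_pQuotient (S : Sylow p G) (K : Subgroup G) [K.Normal]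
    (hK : ∀ d : G, ∃ k, d ^ p ^ k ∈ K) (d : G) :
    ∃ s ∈ (S : Subgroup G), ∃ c ∈ K, d = s * c := by
  have hπ : Function.Surjective (QuotientGroup.mk' K) := QuotientGroup.mk'_surjective K
  have hq : IsPGroup p (G ⧸ K) := fun z => by
    obtain ⟨g, rfl⟩ := QuotientGroup.mk_surjective z
    obtain ⟨k, hk⟩ := hK g
    exact ⟨k, by rwa [← QuotientGroup.mk_pow, QuotientGroup.eq_one_iff]⟩
  have htop : (S : Subgroup G).map (QuotientGroup.mk' K) = ⊤ := by
    rw [← Sylow.coe_mapSurjective hπ]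
    exact ((S.mapSurjective hπ).3 (Q := ⊤) (hq.of_equiv topEquiv.symm) le_top).symm
  obtain ⟨s, hs, hsd⟩ : QuotientGroup.mk' K d ∈ (S : Subgroup G).map (QuotientGroup.mk' K) :=
    htop ▸ mem_top _
  rw [QuotientGroup.mk'_eq_mk'] at hsd
  obtain ⟨c, hc, e⟩ := hsd
  exact ⟨s, hs, c, hc, e.symm⟩

theorem control_of_central (T : Sylow p G) (Z0 : Subgroup G) (hZc : Z0 ≤ center G)
    (hZp : IsPGroup p Z0) (H : Subgroup G) (hTH : (T : Subgroup G) ≤ H)
    (hctl : ∀ A : Subgroup G, A ≤ (T : Subgroup G) → ∀ n : G,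
      (∀ a ∈ A, n * a * n⁻¹ ∈ (T : Subgroup G)) →
      ∃ l ∈ H, ∀ a ∈ A, (l⁻¹ * n) * a * (l⁻¹ * n)⁻¹ * a⁻¹ ∈ Z0) :
    ∀ A : Subgroup G, A ≤ (T : Subgroup G) → ∀ n : G,
      (∀ a ∈ A, n * a * n⁻¹ ∈ (T : Subgroup G)) →
      ∃ l ∈ H, ∃ c ∈ centralizer (A : Set G), n = l * c := by
  intro A hA n hn
  have hcomm : ∀ z ∈ Z0, ∀ g : G, g * z = z * g := fun z hz g => mem_center_iff.1 (hZc hz) g
  haveI hZn : Z0.Normal := ⟨fun z hz g => by rw [hcomm z hz g, mul_inv_cancel_right]; exact hz⟩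
  have hZT : Z0 ≤ (T : Subgroup G) := hZp.le_sylow_of_normal T
  obtain ⟨l, hl, hlA⟩ := hctl A hA n hn
  set π := QuotientGroup.mk' Z0
  set D := (centralizer ((A.map π : Subgroup (G ⧸ Z0)) : Set (G ⧸ Z0))).comap π with hD
  have hmemD : ∀ d, d ∈ D ↔ ∀ a ∈ A, d * a * d⁻¹ * a⁻¹ ∈ Z0 := fun d => by
    rw [hD, mem_comap, mem_centralizer_iff]
    constructor
    · intro h a ha
      rw [← QuotientGroup.eq_one_iff]
      show π (d * a * d⁻¹ * a⁻¹) = 1
      rw [map_mul, map_mul, map_mul, map_inv, map_inv, ← h _ ⟨a, ha, rfl⟩, mul_inv_cancel_right,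
        mul_inv_cancel]
    · rintro h _ ⟨a, ha, rfl⟩
      have h1 : π (d * a * d⁻¹ * a⁻¹) = 1 := (QuotientGroup.eq_one_iff _).2 (h a ha)
      rw [map_mul, map_mul, map_mul, map_inv, map_inv, mul_inv_eq_one, mul_inv_eq_iff_eq_mul] at h1
      exact h1.symm
  obtain ⟨S0⟩ : Nonempty (Sylow p D) := inferInstance
  set S0' := (S0 : Subgroup D).map D.subtype with hS0'
  have hAZ : IsPGroup p (A ⊔ Z0 : Subgroup G) := T.2.to_le (sup_le hA hZT)
  have hnorm : S0' ≤ normalizer ((A ⊔ Z0 : Subgroup G) : Set G) := by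
    refine (map_subtype_le _).trans (Subgroup.le_normalizer_iff.2 fun d hd x hx => ?_)
    have hle : A ⊔ Z0 ≤ (A ⊔ Z0).comap (MulAut.conj d).toMonoidHom := by
      refine sup_le (fun a ha => mem_comap.2 ?_) (fun z hz => mem_comap.2 ?_)
      · show d * a * d⁻¹ ∈ A ⊔ Z0
        rw [show d * a * d⁻¹ = d * a * d⁻¹ * a⁻¹ * a by group]
        exact mul_mem (mem_sup_right ((hmemD d).1 hd a ha)) (mem_sup_left ha)
      · show d * z * d⁻¹ ∈ A ⊔ Z0
        exact mem_sup_right (hZn.conj_mem z hz d)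
    exact mem_comap.1 (hle hx)
  obtain ⟨n0, -, hn0⟩ := conj_into (K := (⊤ : Subgroup G)) (P := (T : Subgroup G)) le_top T.2
    (fun S hS _ hSp => card_le_of_le (T.3 hSp hS).le)
    (S := S0' ⊔ (A ⊔ Z0)) le_top ((S0.2.map D.subtype).to_sup_of_normal_right' hAZ hnorm)
  obtain ⟨h0, hh0, hh0A⟩ := hctl A hA n0 fun a ha => hn0 a (mem_sup_right (mem_sup_left ha))
  set d0 := h0⁻¹ * n0 with hd0
  have hd0D : d0 ∈ D := (hmemD d0).2 hh0A
  set S1 : Sylow p D := (⟨d0, hd0D⟩ : D) • S0 with hS1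
  have hS1H : ∀ s ∈ (S1 : Subgroup D), (s : G) ∈ H := fun s hs => by
    rw [hS1, Sylow.coe_subgroup_smul, mem_pointwise_smul_iff_inv_smul_mem] at hs
    simp only [MulAut.smul_def, MulAut.inv_apply, MulAut.conj_symm_apply] at hs
    have h1 := hn0 _ (mem_sup_left (T := A ⊔ Z0) ⟨_, hs, rfl⟩)
    have h2 := mul_mem (mul_mem (inv_mem hh0) (hTH h1)) hh0
    convert h2 using 1
    simp only [hd0, coe_subtype, coe_mul, coe_inv]
    group
  set KA := (centralizer (A : Set G)).subgroupOf D with hKA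
  haveI : KA.Normal := by
    refine ⟨fun c hc d => ?_⟩
    rw [hKA, mem_subgroupOf] at hc ⊢
    refine mem_centralizer_iff.2 fun a ha => ?_
    have hz : (d : G)⁻¹ * a * d⁻¹⁻¹ * a⁻¹ ∈ Z0 := (hmemD _).1 (inv_mem d.2) a ha
    rw [inv_inv] at hz
    have h1 : ((d : G)⁻¹ * a * d) * c = c * ((d : G)⁻¹ * a * d) := by
      rw [show (d : G)⁻¹ * a * d = ((d : G)⁻¹ * a * d * a⁻¹) * a by group, mul_assoc,
        mem_centralizer_iff.1 hc a ha, ← mul_assoc, ← hcomm _ hz, mul_assoc]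
    simp only [coe_mul, coe_inv]
    calc a * ((d : G) * c * (d : G)⁻¹) = (d : G) * (((d : G)⁻¹ * a * d) * c) * (d : G)⁻¹ := by group
      _ = (d : G) * (c * ((d : G)⁻¹ * a * d)) * (d : G)⁻¹ := by rw [h1]
      _ = _ := by group
  obtain ⟨k, hk⟩ := IsPGroup.iff_card.1 hZp
  have hpow : ∀ d : D, ∃ k, d ^ p ^ k ∈ KA := fun d => ⟨k, by
    rw [hKA, mem_subgroupOf, coe_pow]
    refine mem_centralizer_iff.2 fun a ha => ?_
    set z := (d : G) * a * (d : G)⁻¹ * a⁻¹
    have hz : z ∈ Z0 := (hmemD d).1 d.2 a ha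
    have hj : ∀ j : ℕ, (d : G) ^ j * a = z ^ j * a * (d : G) ^ j := fun j => by
      induction j with
      | zero => simp
      | succ j ih =>
        have h1 : (d : G) * z ^ j = z ^ j * d := hcomm _ (pow_mem hz j) _
        have h2 : (d : G) * a = z * a * d := by simp only [z]; group
        calc (d : G) ^ (j + 1) * a = (d : G) * ((d : G) ^ j * a) := by rw [pow_succ', mul_assoc]
          _ = ((d : G) * z ^ j) * a * (d : G) ^ j := by rw [ih]; group
          _ = z ^ j * ((d : G) * a) * (d : G) ^ j := by rw [h1]; group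
          _ = z ^ (j + 1) * a * (d : G) ^ (j + 1) := by rw [h2, pow_succ z, pow_succ']; group
    have hz1 : z ^ p ^ k = 1 := by
      rw [← hk]
      exact congrArg Subtype.val (pow_card_eq_one' (x := (⟨z, hz⟩ : Z0)))
    rw [hj, hz1, one_mul]⟩
  obtain ⟨s, hs, c, hc, e⟩ := exists_mul_of_pQuotient S1 KA hpow ⟨l⁻¹ * n, (hmemD _).2 hlA⟩
  refine ⟨l * s, mul_mem hl (hS1H s hs), c, mem_subgroupOf.1 hc, ?_⟩
  have e' : l⁻¹ * n = (s : G) * c := congrArg Subtype.val e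
  rw [mul_assoc, ← e', mul_inv_cancel_left]

end CfsgLib.LeastRadical
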