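import Mathlib
import Cfsg.Agent.Kinf.QdBasics

/-!
No `SL₂(p)` section in the automizers of p-subgroups forbids a `Qd(p)` section.
-/

set_option autoImplicit false
set_option linter.unusedSectionVars false
set_option linter.style.haveILetI false

namespace CfsgLib.LeastRadical

open Subgroup CfsgLib.ZJ CfsgLib.QdBasics

variable {G : Type*} [Group G] [Finite G] {p : ℕ} [Fact p.Prime]

theorem lin_eq_one_of_centralizes {lin : Cfsg.qd p →* SL2 (ZMod p)}
    (hlin : ∀ c d A, lin ⟨affMat c d A, affMat_mem_qd c d A⟩ = A) (X : Cfsg.qd p)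
    (h : ∀ c d, X * transl c d * X⁻¹ = transl c d) : lin X = 1 := by
  obtain ⟨a, b, A, rfl⟩ := qd_mem X
  rw [hlin]
  have h1 := h 1 0
  have h2 := h 0 1
  rw [conj_transl] at h1 h2
  obtain ⟨e1, e2⟩ := transl_inj h1
  obtain ⟨e3, e4⟩ := transl_inj h2
  simp only [mul_one, mul_zero, add_zero, zero_add] at e1 e2 e3 e4
  exact sl2_ext (by simpa using e1) (by simpa using e3) (by simpa using e2) (by simpa using e4)

theorem not_involves_qd
    (hfree : ∀ Q : Subgroup G, IsPGroup p ↥Q → ¬ ∃ (H K : Subgroup G) (_ : (K.subgroupOf H).Normal),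
      centralizer (Q : Set G) ≤ K ∧ K ≤ H ∧ H ≤ normalizer (Q : Set G) ∧
      Nonempty ((↥H ⧸ K.subgroupOf H) ≃* Matrix.SpecialLinearGroup (Fin 2) (ZMod p))) :
    ¬ Cfsg.Involves ↥(Cfsg.qd p) G := by
  intro hinv
  obtain ⟨K, f, hf⟩ := exists_surjective_of_involves hinv
  obtain ⟨lin, hlins, hlin, hker⟩ := exists_linear (p := p)
  set V := lin.ker with hV
  have hVp : IsPGroup p V := fun x => by
    obtain ⟨c, d, hx⟩ := hker x.1 x.2
    refine ⟨1, Subtype.ext ?_⟩
    rw [coe_pow, coe_one, hx, transl_pow, pow_one, ZMod.natCast_self, zero_mul, zero_mul,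
      transl_zero]
  set W := V.comap f with hW
  obtain ⟨Q0⟩ : Nonempty (Sylow p W) := inferInstance
  set Qk := (Q0 : Subgroup W).map W.subtype with hQk
  set N0 := normalizer (Qk : Set K) with hN0
  have hfr : N0 ⊔ W = ⊤ := Sylow.normalizer_sup_eq_top Q0
  set φ := lin.comp f with hφ
  have hφs : Function.Surjective φ := hlins.comp hf
  have hsurj : ∀ s, ∃ n ∈ N0, φ n = s := fun s => by
    obtain ⟨k, rfl⟩ := hφs s
    have hk : k ∈ (↑(N0 ⊔ W) : Set K) := by rw [hfr]; exact mem_top k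
    rw [mul_normal] at hk
    obtain ⟨n, hn, w, hw, rfl⟩ := Set.mem_mul.1 hk
    refine ⟨n, hn, ?_⟩
    rw [map_mul, show φ w = 1 from MonoidHom.mem_ker.1 hw, mul_one]
  have hVim : ∀ v ∈ V, ∃ x ∈ Qk, f x = v := fun v hv => by
    let g := f.subgroupComap V
    have hg : Function.Surjective g := f.subgroupComap_surjective_of_surjective V hf
    have h1 : ((Q0.mapSurjective hg : Sylow p V) : Subgroup V) = ⊤ :=
      ((Q0.mapSurjective hg).3 (Q := ⊤) (hVp.of_equiv topEquiv.symm) le_top).symm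
    have h2 : (⟨v, hv⟩ : V) ∈ ((Q0.mapSurjective hg : Sylow p V) : Subgroup V) := h1 ▸ mem_top _
    rw [Sylow.coe_mapSurjective] at h2
    obtain ⟨x, hx, hxv⟩ := h2
    exact ⟨W.subtype x, ⟨x, hx, rfl⟩, congrArg Subtype.val hxv⟩
  set Q := Qk.map K.subtype with hQ
  set C := centralizer (Q : Set G) with hC
  have hφC : ∀ n : K, (n : G) ∈ C → φ n = 1 := fun n hn => by
    refine lin_eq_one_of_centralizes hlin _ fun c d => ?_
    have hv : transl c d ∈ V := MonoidHom.mem_ker.2 (hlin c d 1)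
    obtain ⟨x, hx, hxv⟩ := hVim _ hv
    have h1 : n * x = x * n := Subtype.ext
      (mem_centralizer_iff.1 hn (x : G) ⟨x, hx, rfl⟩).symm
    rw [← hxv, ← map_inv, ← map_mul, ← map_mul, h1, mul_inv_cancel_right]
  set N0' := N0.map K.subtype with hN0'
  have hN0n : N0' ≤ normalizer (Q : Set G) := le_normalizer_map _
  have hnC : N0' ≤ normalizer (C : Set G) := by
    refine hN0n.trans (Subgroup.le_normalizer_iff.2 fun g hg c hc => mem_centralizer_iff.2 fun q hq => ?_)
    have hq' : g⁻¹ * q * g ∈ Q := by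
      simpa using (mem_normalizer_iff.1 (inv_mem hg) q).1 hq
    have h1 := mem_centralizer_iff.1 hc _ hq'
    calc q * (g * c * g⁻¹) = g * (g⁻¹ * q * g * c) * g⁻¹ := by group
      _ = g * (c * (g⁻¹ * q * g)) * g⁻¹ := by rw [h1]
      _ = g * c * g⁻¹ * q := by group
  set R0 := (φ.ker ⊓ N0).map K.subtype with hR0
  set H := N0' ⊔ C with hH
  set L := R0 ⊔ C with hL
  have hLH : L ≤ H := sup_le_sup_right (map_mono inf_le_right) _
  have hR0n : H ≤ normalizer (L : Set G) := by
    refine sup_le ?_ (le_sup_right.trans le_normalizer)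
    refine Subgroup.le_normalizer_iff.2 fun g hg l hl => ?_
    have hle : L ≤ L.comap (MulAut.conj g).toMonoidHom := by
      refine sup_le ?_ fun c hc => mem_sup_right ((mem_normalizer_iff.1 (hnC hg) c).1 hc)
      rintro _ ⟨r, hr, rfl⟩
      obtain ⟨n, hn, rfl⟩ := hg
      refine mem_sup_left ⟨n * r * n⁻¹, Subgroup.mem_inf.2 ⟨?_, mul_mem (mul_mem hn hr.2) (inv_mem hn)⟩, by simp⟩
      exact (inferInstance : φ.ker.Normal).conj_mem r hr.1 n
    exact mem_comap.1 (hle hl)
  haveI hLn : (L.subgroupOf H).Normal :=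
    Subgroup.normal_subgroupOf_of_le_normalizer hR0n
  let ψ : N0 →* H ⧸ L.subgroupOf H := (QuotientGroup.mk' _).comp
    { toFun := fun n => ⟨((n : K) : G), mem_sup_left ⟨(n : K), n.2, rfl⟩⟩
      map_one' := rfl
      map_mul' := fun _ _ => rfl }
  have hψs : Function.Surjective ψ := by
    intro z
    obtain ⟨h, rfl⟩ := QuotientGroup.mk_surjective z
    have hh : (h : G) ∈ (↑(N0' ⊔ C) : Set G) := h.2
    rw [coe_mul_of_left_le_normalizer_right N0' C hnC] at hh
    obtain ⟨_, ⟨n, hn, rfl⟩, c, hc, hnc⟩ := Set.mem_mul.1 hh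
    refine ⟨⟨n, hn⟩, QuotientGroup.eq.2 (mem_subgroupOf.2 ?_)⟩
    show (n : G)⁻¹ * (h : G) ∈ L
    rw [← hnc]
    simpa using mem_sup_right (S := R0) hc
  have hψk : ψ.ker = (φ.comp N0.subtype).ker := by
    ext n
    show (QuotientGroup.mk _ : H ⧸ L.subgroupOf H) = 1 ↔ _
    rw [QuotientGroup.eq_one_iff, mem_subgroupOf]
    constructor
    · intro hn
      have hR0C : R0 ≤ normalizer (C : Set G) := (map_mono inf_le_right).trans hnC
      have h1 : ((n : K) : G) ∈ (↑(R0 ⊔ C) : Set G) := hn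
      rw [coe_mul_of_left_le_normalizer_right R0 C hR0C] at h1
      obtain ⟨_, ⟨r, hr, rfl⟩, c, hc, hrc⟩ := Set.mem_mul.1 h1
      have h2 : ((r⁻¹ * (n : K) : K) : G) ∈ C := by
        have e : ((r⁻¹ * (n : K) : K) : G) = c := by
          rw [coe_mul, coe_inv, ← hrc]; simp
        rw [e]; exact hc
      have h3 := hφC _ h2
      rw [map_mul, map_inv, show φ r = 1 from hr.1, inv_one, one_mul] at h3
      exact h3
    · intro hn
      exact mem_sup_left ⟨(n : K), ⟨hn, n.2⟩, rfl⟩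
  refine hfree Q ((Q0.2.map _).map _) ⟨H, L, hLn, le_sup_right, hLH,
    sup_le hN0n (centralizer_le_normalizer _), ⟨?_⟩⟩
  exact ((QuotientGroup.quotientMulEquivOfEq hψk.symm).trans
    (QuotientGroup.quotientKerEquivOfSurjective ψ hψs)).symm.trans
    (QuotientGroup.quotientKerEquivOfSurjective (φ.comp N0.subtype) (fun s => by
      obtain ⟨n, hn, e⟩ := hsurj s
      exact ⟨⟨n, hn⟩, e⟩))

end CfsgLib.LeastRadical
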