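import Mathlib
import Cfsg.Agent.LeastRadical.CentralQuotient
import Cfsg.Agent.ZJ.ControlMain
import Cfsg.Agent.S1954

/-!
A normal p-subgroup that does not contain its centralizer in a Sylow subgroup can be enlarged to one
whose normalizer still controls strong fusion, in Qd(p)-free groups.
-/

set_option autoImplicit false
set_option linter.unusedSectionVars false
set_option linter.style.haveILetI false

namespace CfsgLib.LeastRadical

open Subgroup CfsgLib.FusionLift

universe u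

variable {G : Type u} [Group G] [Finite G] {p : ℕ} [Fact p.Prime]

/-- `N(U)` controls strong fusion in `P`. -/
def Ctl (P U : Subgroup G) : Prop :=
  ∀ A : Subgroup G, A ≤ P → ∀ g : G, (∀ a ∈ A, g * a * g⁻¹ ∈ P) →
    ∃ h ∈ normalizer (U : Set G), ∃ c ∈ centralizer (A : Set G), g = h * c

/-- `P ∩ N` as a Sylow subgroup of the normal subgroup `N`. -/
theorem exists_sylow_normal (P : Sylow p G) (N : Subgroup G) [N.Normal] :
    ∃ T : Sylow p N, (T : Subgroup N) = (P : Subgroup G).subgroupOf N := by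
  refine ⟨{ toSubgroup := (P : Subgroup G).subgroupOf N, isPGroup' := P.2.comap_subtype, is_maximal' := ?_ }, rfl⟩
  intro S hS hle
  refine (eq_of_le_of_card_ge hle ?_).symm
  obtain ⟨R, hR⟩ := (hS.map N.subtype).exists_le_sylow
  obtain ⟨x, hx⟩ := MulAction.exists_smul_eq G R P
  rw [← card_map_of_injective (K := S) N.subtype_injective,
    ← card_map_of_injective (K := (P : Subgroup G).subgroupOf N) N.subtype_injective,
    subgroupOf_map_subtype, ← card_cj x (S.map N.subtype)]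
  refine card_le_of_le (cj_le fun t ht => Subgroup.mem_inf.2
    ⟨?_, Subgroup.Normal.conj_mem ‹N.Normal› t (map_subtype_le _ ht) x⟩)
  rw [← hx, Sylow.coe_subgroup_smul]
  exact smul_mem_pointwise_smul _ _ _ (hR ht)

theorem exists_larger (hp : p ≠ 2) (hfree : ¬ Cfsg.Involves ↥(Cfsg.qd p) G) (P : Sylow p G)
    (Q : Subgroup G) [Q.Normal] (hQ : IsPGroup p Q)
    (hC : ¬ (P : Subgroup G) ⊓ centralizer (Q : Set G) ≤ Q) :
    ∃ Q' : Subgroup G, Q < Q' ∧ Q' ≤ (P : Subgroup G) ∧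
      (P : Subgroup G) ≤ normalizer (Q' : Set G) ∧ Ctl (P : Subgroup G) Q' := by
  set C := centralizer (Q : Set G) with hCdef
  haveI hCn : C.Normal := Subgroup.normal_centralizer
  obtain ⟨T, hT⟩ := exists_sylow_normal P C
  set Z0 := Q.subgroupOf C with hZ0
  have hZc : Z0 ≤ center C := fun z hz => mem_center_iff.2 fun c => Subtype.ext
    (mem_centralizer_iff.1 c.2 z (mem_subgroupOf.1 hz)).symm
  have hZp : IsPGroup p Z0 := hQ.comap_subtype
  set π := QuotientGroup.mk' Z0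
  have hπ : Function.Surjective π := QuotientGroup.mk'_surjective Z0
  set Tb := T.mapSurjective hπ with hTb
  have hfree' : ¬ Cfsg.Involves ↥(Cfsg.qd p) (C ⧸ Z0) := fun h =>
    hfree (ZJ.involves_of_subgroup C (ZJ.involves_of_quotient Z0 h))
  have hK := ZJ.zkind_centerThompsonA.{u} hp
  set Vb := Cfsg.centerThompsonAOf (Tb : Subgroup (C ⧸ Z0)) with hVb
  have hTne : (Tb : Subgroup (C ⧸ Z0)) ≠ ⊥ := fun h => hC fun x hx => by
    rw [hTb, Sylow.coe_mapSurjective, Subgroup.map_eq_bot_iff, QuotientGroup.ker_mk'] at h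
    have h1 : (⟨x, hx.2⟩ : C) ∈ (T : Subgroup C) := by rw [hT]; exact mem_subgroupOf.2 hx.1
    exact mem_subgroupOf.1 (h h1)
  have hVne : Vb ≠ ⊥ := hK.ne_bot _ _ Tb.2 hTne
  have hVle : Vb ≤ (Tb : Subgroup (C ⧸ Z0)) := hK.le _ _
  have hZT : Z0 ≤ (T : Subgroup C) := hZp.le_sylow_of_normal T
  set V := Vb.comap π with hV
  have hVT : V ≤ (T : Subgroup C) := by
    refine (comap_mono hVle).trans ?_
    rw [hTb, Sylow.coe_mapSurjective, comap_map_eq, QuotientGroup.ker_mk', sup_of_le_left hZT]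
  have hVnorm : (normalizer (Vb : Set (C ⧸ Z0))).comap π = normalizer (V : Set C) :=
    comap_normalizer_eq_of_surjective Vb hπ
  have hTH : (T : Subgroup C) ≤ normalizer (V : Set C) := by
    rw [← hVnorm]
    intro t ht
    exact hK.normalizer_le _ (le_normalizer (mem_map_of_mem π ht))
  have hctl := control_of_central T Z0 hZc hZp (normalizer (V : Set C)) hTH fun A hA n hn => by
    obtain ⟨x, hx, hxA⟩ := ZJ.control_of_free hp hK _ hfree' Tb _ (ZJ.stronglyClosed_self Tb)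
      (A.map π) (π n) (map_mono hA) (by
        rintro _ ⟨_, ⟨a, ha, rfl⟩, rfl⟩
        show π n * π a * (π n)⁻¹ ∈ (T : Subgroup C).map π
        rw [← map_inv, ← map_mul, ← map_mul]
        exact mem_map_of_mem π (hn a ha))
    obtain ⟨l, rfl⟩ := hπ x
    refine ⟨l, by rw [← hVnorm]; exact hx, fun a ha => ?_⟩
    rw [← QuotientGroup.eq_one_iff]
    show π ((l⁻¹ * n) * a * (l⁻¹ * n)⁻¹ * a⁻¹) = 1
    have h1 := hxA _ (mem_map_of_mem π ha)
    simp only [map_mul, map_inv]
    calc (π l)⁻¹ * π n * π a * ((π l)⁻¹ * π n)⁻¹ * (π a)⁻¹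
        = (π l)⁻¹ * (π n * π a * (π n)⁻¹) * π l * (π a)⁻¹ := by group
      _ = (π l)⁻¹ * (π l * π a * (π l)⁻¹) * π l * (π a)⁻¹ := by rw [h1]
      _ = 1 := by group
  set V' := V.map C.subtype with hV'
  have hV'le : V' ≤ (P : Subgroup G) ⊓ C := by
    rintro _ ⟨v, hv, rfl⟩
    have h1 := hVT hv
    rw [hT] at h1
    exact Subgroup.mem_inf.2 ⟨mem_subgroupOf.1 h1, v.2⟩
  have hnm : ∀ l : C, l ∈ normalizer (V : Set C) → (l : G) ∈ normalizer (V' : Set G) :=
    fun l hl => le_normalizer_map C.subtype ⟨l, hl, rfl⟩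
  have hctrl : ∀ A : Subgroup G, A ≤ (P : Subgroup G) ⊓ C → ∀ n ∈ C,
      A.map (MulAut.conj n).toMonoidHom ≤ (P : Subgroup G) ⊓ C →
      ∃ h ∈ C ⊓ normalizer (V' : Set G), ∃ c ∈ C ⊓ centralizer (A : Set G), n = h * c := by
    intro A hA n hn hnA
    obtain ⟨l, hl, c, hc, e⟩ := hctl (A.subgroupOf C)
      (by rw [hT]; exact fun a ha => mem_subgroupOf.2 (hA ha).1) ⟨n, hn⟩ (fun a ha => by
        rw [hT, mem_subgroupOf]
        exact (hnA ⟨(a : G), ha, rfl⟩).1)
    refine ⟨l, Subgroup.mem_inf.2 ⟨l.2, hnm l hl⟩, c,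
      Subgroup.mem_inf.2 ⟨c.2, mem_centralizer_iff.2 fun a ha => ?_⟩, congrArg Subtype.val e⟩
    exact congrArg Subtype.val (mem_centralizer_iff.1 hc ⟨a, (hA ha).2⟩ (mem_subgroupOf.2 ha))
  have hVn : ∀ x ∈ (P : Subgroup G) ⊓ C, V'.map (MulAut.conj x).toMonoidHom = V' := by
    intro x hx
    have h1 : (⟨x, hx.2⟩ : C) ∈ (T : Subgroup C) := by rw [hT]; exact mem_subgroupOf.2 hx.1
    refine eq_of_le_of_card_ge (cj_le fun a ha => ?_) (card_cj x V').ge
    exact (mem_normalizer_iff.1 (hnm _ (hTH h1)) a).1 ha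
  set M := normalizer (((P : Subgroup G) ⊓ C : Subgroup G) : Set G)
  set gens : Set G := ⋃ x ∈ M, ((V'.map (MulAut.conj x).toMonoidHom : Subgroup G) : Set G)
  set W := closure gens with hW
  have hres := Cfsg.Agent.S1954.result C P V' hV'le hVn hctrl W hW
  have hPM : (P : Subgroup G) ≤ M := Subgroup.le_normalizer_iff.2 fun x hx a ha =>
    Subgroup.mem_inf.2 ⟨mul_mem (mul_mem hx ha.1) (inv_mem hx), hCn.conj_mem a ha.2 x⟩
  have hWP : W ≤ (P : Subgroup G) ⊓ C := by
    rw [hW, closure_le]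
    refine Set.iUnion₂_subset fun x hx => ?_
    rintro _ ⟨v, hv, rfl⟩
    exact (mem_normalizer_iff.1 hx v).1 (hV'le hv)
  have hPW : (P : Subgroup G) ≤ normalizer (W : Set G) := Subgroup.le_normalizer_iff.2 fun x hx a ha => by
    have hle : cj x W ≤ W := by
      rw [cj, Subgroup.map_le_iff_le_comap]
      refine (closure_le _).2 (Set.iUnion₂_subset fun y hy => ?_)
      rintro _ ⟨v, hv, rfl⟩
      refine subset_closure (Set.mem_biUnion (mul_mem (hPM hx) hy) ⟨v, hv, ?_⟩)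
      show x * y * v * (x * y)⁻¹ = x * (y * v * y⁻¹) * x⁻¹
      group
    exact hle (conj_mem_cj ha)
  have hnQ : normalizer (W : Set G) ≤ normalizer ((Q ⊔ W : Subgroup G) : Set G) :=
    Subgroup.le_normalizer_iff.2 fun x hx a ha => by
      have hle : Q ⊔ W ≤ (Q ⊔ W).comap (MulAut.conj x).toMonoidHom :=
        sup_le (fun q hq => mem_sup_left (Subgroup.Normal.conj_mem ‹Q.Normal› q hq x))
          (fun w hw => mem_sup_right ((mem_normalizer_iff.1 hx w).1 hw))
      exact mem_comap.1 (hle ha)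
  refine ⟨Q ⊔ W, lt_of_le_of_ne le_sup_left fun he => ?_,
    sup_le (hQ.le_sylow_of_normal P) (hWP.trans inf_le_left), hPW.trans hnQ, fun A hA g hg => ?_⟩
  · refine hVne (le_bot_iff.1 fun v hv => ?_)
    obtain ⟨v, rfl⟩ := hπ v
    rw [Subgroup.mem_bot]
    refine (QuotientGroup.eq_one_iff v).2 (mem_subgroupOf.2 ?_)
    rw [he]
    exact mem_sup_right (subset_closure (Set.mem_biUnion (one_mem M) ⟨(v : G), ⟨v, hv, rfl⟩, by simp⟩))
  · obtain ⟨h, hh, c, hc, e⟩ := hres A hA g (cj_le hg)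
    exact ⟨h, hnQ hh, c, hc, e⟩

end CfsgLib.LeastRadical
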