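import Mathlib
import Cfsg.Agent.LeastRadical.Step
import Cfsg.Agent.LeastRadical.Sections

/-!
The least centric radical subgroup.
-/

set_option autoImplicit false
set_option linter.unusedSectionVars false
set_option linter.style.haveILetI false

namespace CfsgLib.LeastRadical

open Subgroup CfsgLib.FusionLift

universe u

variable {G : Type u} [Group G] [Finite G] {p : ℕ} [Fact p.Prime]

theorem exists_max (hp : p ≠ 2) (hfree : ¬ Cfsg.Involves ↥(Cfsg.qd p) G) (P : Sylow p G) :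
    ∃ Q : Subgroup G, Q ≤ (P : Subgroup G) ∧ (P : Subgroup G) ≤ normalizer (Q : Set G) ∧
      Ctl (P : Subgroup G) Q ∧ (P : Subgroup G) ⊓ centralizer (Q : Set G) ≤ Q ∧
      ∀ Q' : Subgroup G, Q ≤ Q' → Q' ≤ (P : Subgroup G) → (P : Subgroup G) ≤ normalizer (Q' : Set G) →
        Ctl (P : Subgroup G) Q' → Q' = Q := by
  classical
  let 𝒮 := {Q : Subgroup G // Q ≤ (P : Subgroup G) ∧ (P : Subgroup G) ≤ normalizer (Q : Set G) ∧
    Ctl (P : Subgroup G) Q}
  haveI : Nonempty 𝒮 := ⟨⟨⊥, bot_le, (normalizer_eq_top (⊥ : Subgroup G)).symm ▸ le_top,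
    fun A _ g _ => ⟨g, (normalizer_eq_top (⊥ : Subgroup G)).symm ▸ mem_top g, 1, one_mem _, (mul_one g).symm⟩⟩⟩
  obtain ⟨⟨Q, hQP, hPQ, hctl⟩, hmax⟩ := Finite.exists_max fun Q : 𝒮 => Nat.card Q.1
  have hmax' : ∀ Q' : Subgroup G, Q ≤ Q' → Q' ≤ (P : Subgroup G) →
      (P : Subgroup G) ≤ normalizer (Q' : Set G) → Ctl (P : Subgroup G) Q' → Q' = Q :=
    fun Q' h1 h2 h3 h4 => (eq_of_le_of_card_ge h1 (hmax ⟨Q', h2, h3, h4⟩)).symm
  refine ⟨Q, hQP, hPQ, hctl, ?_, hmax'⟩
  by_contra hC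
  set N := normalizer (Q : Set G) with hN
  haveI : (Q.subgroupOf N).Normal := normal_subgroupOf_of_le_normalizer le_rfl
  set P1 : Sylow p N := P.subtype hPQ
  have hP1 : ∀ x : N, x ∈ (P1 : Subgroup N) ↔ (x : G) ∈ (P : Subgroup G) := fun _ => Iff.rfl
  obtain ⟨Q1, hlt, hQ1, hPQ1, hctl1⟩ := exists_larger hp
    (fun h => hfree (ZJ.involves_of_subgroup N h)) P1 (Q.subgroupOf N)
    ((P.2.to_le hQP).comap_subtype) (fun hle => hC fun x hx => by
      have hxN : x ∈ N := hPQ hx.1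
      exact mem_subgroupOf.1 (hle (Subgroup.mem_inf.2 ⟨(hP1 ⟨x, hxN⟩).2 hx.1,
        mem_centralizer_iff.2 fun q hq => Subtype.ext
          (mem_centralizer_iff.1 hx.2 (q : G) (mem_subgroupOf.1 hq))⟩)))
  set Q' := Q1.map N.subtype with hQ'
  have hQN : Q ≤ N := le_normalizer
  have hQQ' : Q ≤ Q' := fun q hq => ⟨⟨q, hQN hq⟩, hlt.le (mem_subgroupOf.2 hq), rfl⟩
  have hQ'P : Q' ≤ (P : Subgroup G) := by
    rintro _ ⟨q, hq, rfl⟩
    exact (hP1 q).1 (hQ1 hq)
  have hne : Q' ≠ Q := fun h => hlt.ne (by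
    refine SetLike.ext fun x => ?_
    rw [mem_subgroupOf, ← h]
    exact ⟨fun ⟨y, hy, e⟩ => Subtype.ext e ▸ hy, fun hy => ⟨x, hy, rfl⟩⟩)
  refine hne (hmax' Q' hQQ' hQ'P (fun x hx => ?_) fun A hA g hg => ?_)
  · exact le_normalizer_map N.subtype ⟨⟨x, hPQ hx⟩, hPQ1 ((hP1 _).2 hx), rfl⟩
  · obtain ⟨h, hh, c, hc, rfl⟩ := hctl A hA g hg
    obtain ⟨h', hh', c', hc', e⟩ := hctl1 (A.subgroupOf N) (fun a ha => (hP1 a).2 (hA (mem_subgroupOf.1 ha)))
      ⟨h, hh⟩ (fun a ha => by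
        refine (hP1 _).2 ?_
        have h1 := hg a (mem_subgroupOf.1 ha)
        have h2 : c * (a : G) * c⁻¹ = a := by
          rw [← mem_centralizer_iff.1 hc a (mem_subgroupOf.1 ha), mul_inv_cancel_right]
        rw [show h * c * (a : G) * (h * c)⁻¹ = h * (c * a * c⁻¹) * h⁻¹ by group, h2] at h1
        exact h1)
    refine ⟨h', le_normalizer_map N.subtype ⟨h', hh', rfl⟩, (c' : G) * c, mul_mem ?_ hc, ?_⟩
    · exact mem_centralizer_iff.2 fun a ha => congrArg Subtype.val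
        (mem_centralizer_iff.1 hc' ⟨a, hPQ (hA ha)⟩ (mem_subgroupOf.2 ha))
    · have e' : h = (h' : G) * c' := congrArg Subtype.val e
      rw [e', mul_assoc]

/-- A maximal controlling subgroup is radical. -/
theorem radical_of_max (P : Sylow p G) (Q : Subgroup G) (hQP : Q ≤ (P : Subgroup G))
    (hPQ : (P : Subgroup G) ≤ normalizer (Q : Set G)) (hctl : Ctl (P : Subgroup G) Q)
    (hcen : (P : Subgroup G) ⊓ centralizer (Q : Set G) ≤ Q)
    (hmax : ∀ Q' : Subgroup G, Q ≤ Q' → Q' ≤ (P : Subgroup G) → (P : Subgroup G) ≤ normalizer (Q' : Set G) →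
      Ctl (P : Subgroup G) Q' → Q' = Q)
    (X : Subgroup G) (hXN : X ≤ normalizer (Q : Set G))
    (hXn : ∀ n ∈ normalizer (Q : Set G), X.map (MulAut.conj n).toMonoidHom = X)
    (hQX : Q ⊔ centralizer (Q : Set G) ≤ X)
    (hidx : ∃ k : ℕ, (Q ⊔ centralizer (Q : Set G)).relIndex X = p ^ k) :
    X = Q ⊔ centralizer (Q : Set G) := by
  classical
  set N := normalizer (Q : Set G) with hN
  set C := centralizer (Q : Set G) with hC
  have hXnorm : N ≤ normalizer (X : Set G) := Subgroup.le_normalizer_iff.2 fun n hn x hx => by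
    rw [← hXn n hn]; exact conj_mem_cj hx
  have hCN : C ≤ N := centralizer_le_normalizer _
  have hNC : N ≤ normalizer (C : Set G) := Subgroup.le_normalizer_iff.2 fun g hg c hc =>
    mem_centralizer_iff.2 fun q hq => by
      have h1 := mem_centralizer_iff.1 hc (g⁻¹ * q * g) (conj_mem_of_le_normalizer' le_rfl hg hq)
      calc q * (g * c * g⁻¹) = g * (g⁻¹ * q * g * c) * g⁻¹ := by group
        _ = g * (c * (g⁻¹ * q * g)) * g⁻¹ := by rw [h1]
        _ = g * c * g⁻¹ * q := by group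
  have hPmax : ∀ S : Subgroup G, (P : Subgroup G) ≤ S → S ≤ N → IsPGroup p S →
      Nat.card S ≤ Nat.card (P : Subgroup G) := fun S hS _ hSp => card_le_of_le (P.3 hSp hS).le
  have hsylX : ∀ S : Subgroup G, S ≤ X → IsPGroup p S → ∀ Y : Subgroup G, Y ≤ X → N ≤ normalizer (Y : Set G) →
      S ≤ Y → Nat.card S ≤ Nat.card ((P : Subgroup G) ⊓ Y : Subgroup G) := by
    intro S hSX hS Y _ hY hSY
    obtain ⟨x, hx, hxS⟩ := conj_into hPQ P.2 hPmax (hSX.trans hXN) hS
    rw [← card_cj x S]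
    exact card_le_of_le (cj_le fun s hs => Subgroup.mem_inf.2
      ⟨hxS s hs, (mem_normalizer_iff.1 (hY hx) s).1 (hSY hs)⟩)
  -- Sylow subgroups of `C` are central
  obtain ⟨Z, hZ⟩ : ∃ Z : Sylow p C, (Z : Subgroup C) = ((P : Subgroup G) ⊓ C).subgroupOf C := by
    refine ⟨{ toSubgroup := ((P : Subgroup G) ⊓ C).subgroupOf C, isPGroup' := (P.2.to_le inf_le_left).comap_subtype, is_maximal' := ?_ }, rfl⟩
    intro S hS hle
    refine (eq_of_le_of_card_ge hle ?_).symm
    rw [← card_map_of_injective (K := S) C.subtype_injective,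
      Nat.card_congr (subgroupOfEquivOfLe (inf_le_right : (P : Subgroup G) ⊓ C ≤ C)).toEquiv]
    exact hsylX _ ((map_subtype_le _).trans (le_sup_right.trans hQX)) (hS.map _) C (le_sup_right.trans hQX) hNC
      (map_subtype_le _)
  have hZc : normalizer ((Z : Subgroup C) : Set C) ≤ centralizer ((Z : Subgroup C) : Set C) := by
    intro c _
    refine mem_centralizer_iff.2 fun z hz => Subtype.ext ?_
    rw [SetLike.mem_coe, hZ, mem_subgroupOf] at hz
    exact mem_centralizer_iff.1 c.2 _ (hcen hz)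
  set O := ((MonoidHom.transferSylow Z hZc).ker).map C.subtype with hO
  have hcompl := MonoidHom.ker_transferSylow_isComplement' Z hZc
  have hOmem : ∀ x : G, x ∈ O ↔ x ∈ C ∧ ¬ p ∣ orderOf x := by
    intro x
    constructor
    · rintro ⟨c, hc, rfl⟩
      refine ⟨c.2, fun hd => ?_⟩
      have h1 : p ∣ Nat.card (MonoidHom.transferSylow Z hZc).ker := by
        refine hd.trans ?_
        rw [show C.subtype c = (c : G) from rfl, orderOf_coe]
        exact orderOf_dvd_natCard _ hc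
      rw [← hcompl.index_eq_card] at h1
      exact Z.not_dvd_index h1
    · rintro ⟨hxC, hx⟩
      refine ⟨⟨x, hxC⟩, MonoidHom.mem_ker.2 ?_, rfl⟩
      set t := MonoidHom.transferSylow Z hZc ⟨x, hxC⟩
      obtain ⟨k, hk⟩ := IsPGroup.iff_orderOf.1 Z.2 t
      have h1 : orderOf t ∣ orderOf x :=
        (orderOf_map_dvd (MonoidHom.transferSylow Z hZc) (⟨x, hxC⟩ : C)).trans (Subgroup.orderOf_mk x hxC).dvd
      rw [hk] at h1
      refine orderOf_eq_one_iff.1 ?_
      rcases k with _ | k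
      · simpa using hk
      · exact absurd ((dvd_pow_self p k.succ_ne_zero).trans h1) hx
  have hON : N ≤ normalizer (O : Set G) := Subgroup.le_normalizer_iff.2 fun g hg x hx => by
    rw [hOmem] at hx ⊢
    refine ⟨(mem_normalizer_iff.1 (hNC hg) x).1 hx.1, ?_⟩
    rw [show g * x * g⁻¹ = MulAut.conj g x from rfl, MulEquiv.orderOf_eq]
    exact hx.2
  have hPO : ∀ x ∈ (P : Subgroup G), x ∈ O → x = 1 := fun x hx hxO => by
    obtain ⟨k, hk⟩ := IsPGroup.iff_orderOf.1 P.2 ⟨x, hx⟩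
    rw [orderOf_mk] at hk
    rcases k with _ | k
    · simpa using hk
    · exact absurd (hk ▸ dvd_pow_self p k.succ_ne_zero) ((hOmem x).1 hxO).2
  have hCQO : C ≤ Q ⊔ O := by
    intro c hc
    have h1 : (⟨c, hc⟩ : C) ∈ (MonoidHom.transferSylow Z hZc).ker ⊔ (Z : Subgroup C) := by
      rw [hcompl.sup_eq_top]; exact mem_top _
    have h2 : c ∈ ((MonoidHom.transferSylow Z hZc).ker ⊔ (Z : Subgroup C)).map C.subtype := ⟨_, h1, rfl⟩
    rw [Subgroup.map_sup] at h2
    refine (sup_le le_sup_right ?_ : O ⊔ (Z : Subgroup C).map C.subtype ≤ Q ⊔ O) h2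
    rw [hZ, subgroupOf_map_subtype]
    exact (inf_le_left.trans hcen).trans le_sup_left
  set Q2 := (P : Subgroup G) ⊓ X with hQ2
  have hQQ2 : Q ≤ Q2 := le_inf hQP (le_sup_left.trans hQX)
  have hX2 : X ≤ Q2 ⊔ O := by
    have h1 : X ≤ Q2 ⊔ C := by
      rw [← relIndex_eq_one]
      obtain ⟨k, hk⟩ := hidx
      have hd1 : (Q2 ⊔ C).relIndex X ∣ p ^ k := hk ▸ relIndex_dvd_of_le_left X (sup_le_sup_right hQQ2 _)
      obtain ⟨S0⟩ : Nonempty (Sylow p X) := inferInstance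
      have hS0 : Nat.card S0 ≤ Nat.card Q2 := by
        rw [← card_map_of_injective (K := (S0 : Subgroup X)) X.subtype_injective]
        exact hsylX _ (map_subtype_le _) (S0.2.map _) X le_rfl hXnorm (map_subtype_le _)
      have hd2 : (Q2 ⊔ C).relIndex X ∣ (Q2.subgroupOf X).index :=
        relIndex_dvd_of_le_left X le_sup_left
      have hnd : ¬ p ∣ (Q2.subgroupOf X).index := by
        intro hd
        let Q2s : Sylow p X := Sylow.ofCard (Q2.subgroupOf X) (by
          refine le_antisymm ?_ ?_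
          · obtain ⟨R, hR⟩ := ((P.2.to_le inf_le_left).comap_subtype :
              IsPGroup p (Q2.subgroupOf X)).exists_le_sylow
            rw [← R.card_eq_multiplicity]
            exact card_le_of_le hR
          · rw [← S0.card_eq_multiplicity, Nat.card_congr (subgroupOfEquivOfLe (inf_le_right : Q2 ≤ X)).toEquiv]
            exact hS0)
        exact Q2s.not_dvd_index hd
      exact Nat.eq_one_of_dvd_coprimes
        (((Fact.out : p.Prime).coprime_iff_not_dvd.2 hnd).pow_left k) hd1 hd2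
    exact h1.trans (sup_le le_sup_left (hCQO.trans (sup_le_sup_right hQQ2 _)))
  have hPQ2 : (P : Subgroup G) ≤ normalizer (Q2 : Set G) := Subgroup.le_normalizer_iff.2 fun x hx a ha =>
    Subgroup.mem_inf.2 ⟨mul_mem (mul_mem hx ha.1) (inv_mem hx), (mem_normalizer_iff.1 (hXnorm (hPQ hx)) a).1 ha.2⟩
  have hOX : O ≤ X := fun x hx => hQX (mem_sup_right ((hOmem x).1 hx).1)
  have hctl2 : Ctl (P : Subgroup G) Q2 := by
    intro A hA g hg
    obtain ⟨h0, hh0, c0, hc0, rfl⟩ := hctl A hA g hg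
    have hh0A : ∀ a ∈ A, h0 * a * h0⁻¹ ∈ (P : Subgroup G) := fun a ha => by
      have h1 := hg a ha
      rw [show h0 * c0 * a * (h0 * c0)⁻¹ = h0 * (c0 * a) * c0⁻¹ * h0⁻¹ by group,
        ← mem_centralizer_iff.1 hc0 a ha] at h1
      convert h1 using 1
      group
    -- Frattini
    obtain ⟨x, hx, hxQ⟩ := conj_into (K := X) (P := Q2) inf_le_right (P.2.to_le inf_le_left)
      (fun S _ hSX hS => hsylX S hSX hS X le_rfl hXnorm hSX)
      (S := cj h0 Q2) (cj_le fun a ha => (mem_normalizer_iff.1 (hXnorm hh0) a).1 ha.2)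
      ((P.2.to_le inf_le_left).map _)
    have hQ2X : Q2 ≤ normalizer (O : Set G) := inf_le_right.trans (hXN.trans hON)
    have hx' : x ∈ (↑(Q2 ⊔ O) : Set G) := hX2 hx
    rw [coe_mul_of_left_le_normalizer_right Q2 O hQ2X] at hx'
    obtain ⟨q, hq, o, ho, rfl⟩ := Set.mem_mul.1 hx'
    set k := o * h0 with hk
    have hkN : k ∈ N := mul_mem (hXN (hOX ho)) hh0
    have hkQ : k ∈ normalizer (Q2 : Set G) := by
      refine mem_normalizer_fintype fun a ha => ?_
      have h1 := hxQ _ (conj_mem_cj (x := h0) ha)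
      have h2 := conj_mem_of_le_normalizer' le_normalizer hq h1
      show k * a * k⁻¹ ∈ Q2
      convert h2 using 1
      simp only [hk]
      group
    set O' := O ⊓ normalizer (Q2 : Set G)
    set B := cj h0 A
    have hBP : B ≤ (P : Subgroup G) := cj_le hh0A
    have hBO : B ≤ normalizer (O' : Set G) := fun b hb =>
      (le_inf (hPQ.trans hON) (hPQ2.trans le_normalizer) |>.trans inf_normalizer_le_normalizer_inf) (hBP hb)
    have hkB : ∀ a ∈ A, k * a * k⁻¹ * (h0 * a * h0⁻¹)⁻¹ ∈ O' := fun a ha => by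
      refine Subgroup.mem_inf.2 ⟨?_, ?_⟩
      · rw [show k * a * k⁻¹ * (h0 * a * h0⁻¹)⁻¹ = o * ((h0 * a * h0⁻¹) * o⁻¹ * (h0 * a * h0⁻¹)⁻¹) by
          simp only [hk]; group]
        exact mul_mem ho (conj_mem_of_le_normalizer (hPQ.trans hON) (hh0A a ha) (inv_mem ho))
      · exact mul_mem (mul_mem (mul_mem hkQ (hPQ2 (hA ha))) (inv_mem hkQ)) (inv_mem (hPQ2 (hh0A a ha)))
    have hBmax : ∀ S : Subgroup G, B ≤ S → S ≤ B ⊔ O' → IsPGroup p S → Nat.card S ≤ Nat.card B := by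
      intro S hBS hSle hS
      refine card_le_of_le fun s hs => ?_
      have h1 : s ∈ (↑(B ⊔ O') : Set G) := hSle hs
      rw [coe_mul_of_left_le_normalizer_right B O' hBO] at h1
      obtain ⟨b, hb, v, hv, rfl⟩ := Set.mem_mul.1 h1
      have hvS : v ∈ S := (mul_mem_cancel_left (hBS hb)).1 hs
      obtain ⟨j, hj⟩ := IsPGroup.iff_orderOf.1 hS ⟨v, hvS⟩
      rw [orderOf_mk] at hj
      have hv1 : v = 1 := by
        rcases j with _ | j
        · simpa using hj
        · exact absurd (hj ▸ dvd_pow_self p j.succ_ne_zero) ((hOmem v).1 hv.1).2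
      rw [hv1, mul_one]
      exact hb
    obtain ⟨y, hy, hyA⟩ := conj_into (K := B ⊔ O') le_sup_left ((P.2.to_le hA).map _) hBmax
      (S := cj k A) (cj_le fun a ha => by
        have h1 := mul_mem (mem_sup_right (S := B) (hkB a ha)) (mem_sup_left (conj_mem_cj (x := h0) ha))
        rwa [inv_mul_cancel_right] at h1) ((P.2.to_le hA).map _)
    have hy' : y ∈ (↑(B ⊔ O') : Set G) := hy
    rw [coe_mul_of_left_le_normalizer_right B O' hBO] at hy'
    obtain ⟨b, hb, o1, ho1, rfl⟩ := Set.mem_mul.1 hy'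
    have heq : ∀ a ∈ A, o1 * k * a * (o1 * k)⁻¹ = h0 * a * h0⁻¹ := fun a ha => by
      have h1 := hyA _ (conj_mem_cj (x := k) ha)
      have h2 : o1 * k * a * (o1 * k)⁻¹ ∈ B := by
        have h3 := mul_mem (mul_mem (inv_mem hb) h1) hb
        convert h3 using 1
        group
      have h4 : o1 * k * a * (o1 * k)⁻¹ * (h0 * a * h0⁻¹)⁻¹ ∈ O := by
        rw [show o1 * k * a * (o1 * k)⁻¹ * (h0 * a * h0⁻¹)⁻¹ = o1 * (k * a * k⁻¹ * (h0 * a * h0⁻¹)⁻¹) *
          ((h0 * a * h0⁻¹) * o1⁻¹ * (h0 * a * h0⁻¹)⁻¹) by group]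
        exact mul_mem (mul_mem ho1.1 (hkB a ha).1)
          (conj_mem_of_le_normalizer (hPQ.trans hON) (hh0A a ha) (inv_mem ho1.1))
      exact mul_inv_eq_one.1 (hPO _ (mul_mem (hBP h2) (inv_mem (hh0A a ha))) h4)
    refine ⟨o1 * k, mul_mem ho1.2 hkQ, (o1 * k)⁻¹ * h0 * c0, mul_mem ?_ hc0, by group⟩
    refine mem_centralizer_iff.2 fun a ha => ?_
    calc a * ((o1 * k)⁻¹ * h0) = (o1 * k)⁻¹ * (o1 * k * a * (o1 * k)⁻¹) * h0 := by group
      _ = (o1 * k)⁻¹ * (h0 * a * h0⁻¹) * h0 := by rw [heq a ha]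
      _ = _ := by group
  have h2eq : Q2 = Q := hmax Q2 hQQ2 inf_le_left hPQ2 hctl2
  refine le_antisymm ?_ hQX
  refine hX2.trans (sup_le (h2eq.le.trans le_sup_left) fun x hx => mem_sup_right ((hOmem x).1 hx).1)

/-- A controlling subgroup lies in every centric radical subgroup. -/
theorem le_centric_radical (P : Sylow p G) (Q : Subgroup G) (hQP : Q ≤ (P : Subgroup G))
    (hPQ : (P : Subgroup G) ≤ normalizer (Q : Set G)) (hctl : Ctl (P : Subgroup G) Q)
    (R : Subgroup G) (hRP : R ≤ (P : Subgroup G))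
    (hRc : ∃ R0 : Sylow p ↥(centralizer (R : Set G)),
      (R0 : Subgroup ↥(centralizer (R : Set G))).map (centralizer (R : Set G)).subtype = R ⊓ centralizer (R : Set G))
    (hRr : ∀ X : Subgroup G, X ≤ normalizer (R : Set G) →
        (∀ n ∈ normalizer (R : Set G), X.map (MulAut.conj n).toMonoidHom = X) →
        R ⊔ centralizer (R : Set G) ≤ X → (∃ k : ℕ, (R ⊔ centralizer (R : Set G)).relIndex X = p ^ k) →
        X = R ⊔ centralizer (R : Set G)) :
    Q ≤ R := by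
  classical
  set C := centralizer (R : Set G) with hC
  set NR := normalizer (R : Set G) with hNR
  set T := Q ⊓ NR with hT
  have hCN : C ≤ NR := centralizer_le_normalizer _
  have hNC : NR ≤ normalizer (C : Set G) := Subgroup.le_normalizer_iff.2 fun g hg c hc =>
    mem_centralizer_iff.2 fun q hq => by
      have h1 := mem_centralizer_iff.1 hc (g⁻¹ * q * g) (conj_mem_of_le_normalizer' le_rfl hg hq)
      calc q * (g * c * g⁻¹) = g * (g⁻¹ * q * g * c) * g⁻¹ := by group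
        _ = g * (c * (g⁻¹ * q * g)) * g⁻¹ := by rw [h1]
        _ = g * c * g⁻¹ * q := by group
  have hNRC : NR ≤ normalizer ((R ⊔ C : Subgroup G) : Set G) := Subgroup.le_normalizer_iff.2 fun g hg a ha => by
    have hle : R ⊔ C ≤ (R ⊔ C).comap (MulAut.conj g).toMonoidHom :=
      sup_le (fun r hr => mem_sup_left ((mem_normalizer_iff.1 hg r).1 hr))
        (fun c hc => mem_sup_right ((mem_normalizer_iff.1 (hNC hg) c).1 hc))
    exact mem_comap.1 (hle ha)
  set X := T ⊔ (R ⊔ C) with hX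
  have hXn : ∀ n ∈ NR, ∀ a ∈ X, n * a * n⁻¹ ∈ X := by
    intro n hn
    obtain ⟨c, hc, h, hh, rfl⟩ : ∃ c ∈ C, ∃ h ∈ normalizer (Q : Set G), n = h * c := by
      have hnA : ∀ a ∈ R, n * a * n⁻¹ ∈ (P : Subgroup G) := fun a ha => hRP ((mem_normalizer_iff.1 hn a).1 ha)
      obtain ⟨h, hh, c, hc, e⟩ := hctl R hRP n hnA
      exact ⟨c, hc, h, hh, e⟩
    have hhR : h ∈ NR := by
      have := mul_mem hn (inv_mem (hCN hc))
      rwa [mul_inv_cancel_right] at this
    have hcX : c ∈ X := mem_sup_right (mem_sup_right hc)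
    have hle : X ≤ X.comap (MulAut.conj h).toMonoidHom := by
      refine sup_le (fun t ht => mem_sup_left ?_) (fun a ha => mem_sup_right ((mem_normalizer_iff.1 (hNRC hhR) a).1 ha))
      exact Subgroup.mem_inf.2 ⟨(mem_normalizer_iff.1 hh t).1 ht.1, mul_mem (mul_mem hhR ht.2) (inv_mem hhR)⟩
    intro a ha
    have h1 := mem_comap.1 (hle (mul_mem (mul_mem hcX ha) (inv_mem hcX)))
    convert h1 using 1
    show _ = h * (c * a * c⁻¹) * h⁻¹
    group
  have hTn : T ≤ normalizer ((R ⊔ C : Subgroup G) : Set G) := inf_le_right.trans hNRC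
  have hXeq := hRr X (sup_le inf_le_right (sup_le le_normalizer hCN))
    (fun n hn => eq_of_le_of_card_ge (cj_le (hXn n hn)) (card_cj n X).ge) le_sup_right (by
      rw [hX, relIndex_sup_of_le_normalizer hTn]
      obtain ⟨k, hk⟩ := IsPGroup.iff_card.1 (P.2.to_le (inf_le_left.trans hQP) : IsPGroup p T)
      obtain ⟨j, -, hj⟩ := (Nat.dvd_prime_pow Fact.out).1 (hk ▸ (relIndex_dvd_card (H := R ⊔ C) (K := T)))
      exact ⟨j, hj⟩)
  obtain ⟨R0, hR0⟩ := hRc
  have hPC : (P : Subgroup G) ⊓ C ≤ R := by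
    haveI : (R0 : Subgroup C).Normal := by
      refine ⟨fun z hz c => ?_⟩
      have h1 : (z : G) ∈ R := (hR0.le ⟨z, hz, rfl⟩ : (z : G) ∈ R ⊓ C).1
      have h2 : c * z = z * c := Subtype.ext (mem_centralizer_iff.1 c.2 _ h1).symm
      rwa [h2, mul_inv_cancel_right]
    intro x hx
    have h3 : ((P : Subgroup G) ⊓ C).subgroupOf C ≤ (R0 : Subgroup C) := by
      obtain ⟨S, hS⟩ := ((P.2.to_le inf_le_left).comap_subtype :
        IsPGroup p (((P : Subgroup G) ⊓ C).subgroupOf C)).exists_le_sylow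
      haveI := Sylow.unique_of_normal R0 inferInstance
      rwa [Subsingleton.elim S R0] at hS
    exact (hR0.le ⟨⟨x, hx.2⟩, h3 (mem_subgroupOf.2 hx), rfl⟩ : x ∈ R ⊓ C).1
  have hTR : T ≤ R := fun t ht => by
    have h1 : t ∈ (↑(R ⊔ C) : Set G) := hXeq.le (mem_sup_left ht)
    rw [coe_mul_of_right_le_normalizer_left R C hCN] at h1
    obtain ⟨r, hr, c, hc, rfl⟩ := Set.mem_mul.1 h1
    refine mul_mem hr (hPC (Subgroup.mem_inf.2 ⟨?_, hc⟩))
    exact (mul_mem_cancel_left (hRP hr)).1 (hQP ht.1)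
  by_contra hQR
  set U := R ⊔ Q
  have hUP : U ≤ (P : Subgroup G) := sup_le hRP hQP
  have hlt : R.subgroupOf U < ⊤ := lt_top_iff_ne_top.2 fun h => hQR (le_sup_right.trans (subgroupOf_eq_top.1 h))
  haveI := (P.2.to_le hUP).isNilpotent
  obtain ⟨x, hxN, hxR⟩ := SetLike.exists_of_lt (Group.normalizerCondition_of_isNilpotent _ hlt)
  have hxNR : (x : G) ∈ NR := mem_normalizer_fintype fun r hr =>
    (mem_normalizer_iff.1 hxN ⟨r, mem_sup_left hr⟩).1 hr
  have hRQ : R ≤ normalizer (Q : Set G) := hRP.trans hPQ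
  have hx' : (x : G) ∈ (↑(R ⊔ Q) : Set G) := x.2
  rw [coe_mul_of_left_le_normalizer_right R Q hRQ] at hx'
  obtain ⟨r, hr, q, hq, hrq⟩ := Set.mem_mul.1 hx'
  refine hxR (mem_subgroupOf.2 ?_)
  rw [← hrq]
  refine mul_mem hr (hTR (Subgroup.mem_inf.2 ⟨hq, ?_⟩))
  exact (mul_mem_cancel_left (le_normalizer hr)).1 (hrq ▸ hxNR)

end CfsgLib.LeastRadical
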